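import Groth.Agent.L13.ModPair.Localized
import Groth.Agent.L13.DescendBlowUp.Main
import Groth.Agent.L19.Limit.BaseChange
import Groth.Agent.L19.Limit.Exists

/-! Cofiltered systems of modulus pairs with affine minimal transition maps. -/

set_option autoImplicit false
set_option linter.style.haveILetI false
set_option backward.isDefEq.respectTransparency false

universe u

open CategoryTheory CategoryTheory.Limits AlgebraicGeometry TopologicalSpace

namespace Groth.L13.PairColim

open Groth.L22 Groth.L13.MP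

/-- a system of modulus pairs with affine minimal transition maps -/
structure MinSys (I : Type u) [SmallCategory I] where
  D : I ⥤ Scheme.{u}
  J : ∀ i, (D.obj i).IdealSheafData
  eff : ∀ i, BlowUp.IsEffCartierIdeal (J i)
  min : ∀ (i j : I) (t : i ⟶ j), ModPair.IsMinimal (J i) (J j) (D.map t)
  aff : ∀ (i j : I) (t : i ⟶ j), IsAffineHom (D.map t)
  cpt : ∀ i, CompactSpace (D.obj i)
  qs : ∀ i, QuasiSeparatedSpace (D.obj i)

attribute [instance] MinSys.cpt MinSys.qs MinSys.aff

variable {I : Type u} [SmallCategory I]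

noncomputable abbrev MinSys.pair (M : MinSys I) (i : I) : ModPair.Pair.{u} := ⟨M.D.obj i, M.J i, M.eff i⟩

noncomputable abbrev MinSys.map (M : MinSys I) {i j : I} (t : i ⟶ j) : M.pair i ⟶ M.pair j :=
  ⟨M.D.map t, le_of_eq (M.min i j t)⟩

/-- a limit of a system -/
structure MinLim (M : MinSys I) where
  c : Cone M.D
  hc : IsLimit c
  IX : c.pt.IdealSheafData
  hIX : ∀ i, IX = (M.J i).comap (c.π.app i)
  eff : BlowUp.IsEffCartierIdeal IX

noncomputable abbrev MinLim.pair {M : MinSys I} (L : MinLim M) : ModPair.Pair.{u} := ⟨L.c.pt, L.IX, L.eff⟩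

noncomputable abbrev MinLim.π {M : MinSys I} (L : MinLim M) (i : I) : L.pair ⟶ M.pair i :=
  ⟨L.c.π.app i, le_of_eq (L.hIX i)⟩

theorem MinLim.π_map {M : MinSys I} (L : MinLim M) {i j : I} (t : i ⟶ j) : L.π i ≫ M.map t = L.π j :=
  ModPair.Pair.Hom.ext (L.c.w t)

/-- every limit of the schemes carries a modulus -/
theorem exists_minLim [IsCofiltered I] (M : MinSys I) : Nonempty (MinLim M) := by
  haveI : ∀ {i j : I} (t : i ⟶ j), IsAffineHom (M.D.map t) := fun t => M.aff _ _ t
  haveI := Groth.L19.Limit.hasLimit M.D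
  obtain ⟨i₀⟩ := IsCofiltered.nonempty (C := I)
  refine ⟨⟨limit.cone M.D, limit.isLimit _, (M.J i₀).comap ((limit.cone M.D).π.app i₀), fun i => ?_,
    Groth.Agent.S18744.result M.D _ (limit.isLimit _) M.J M.eff M.min i₀⟩⟩
  obtain ⟨k, a, b, -⟩ := IsCofilteredOrEmpty.cone_objs (C := I) i₀ i
  rw [← (limit.cone M.D).w a, ← (limit.cone M.D).w b, Scheme.IdealSheafData.comap_comp,
    Scheme.IdealSheafData.comap_comp, ← M.min k i₀ a, ← M.min k i b]

/-- a cone which is a closed subscheme of a limit, cut out by the closed subschemes of the stages, is a limit -/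
noncomputable def isLimitClosed {B Z : I ⥤ Scheme.{u}} (z : Z ⟶ B) [∀ j, IsClosedImmersion (z.app j)] {cB : Cone B}
    (hB : IsLimit cB) (cZ : Cone Z) (m : cZ.pt ⟶ cB.pt) [IsClosedImmersion m]
    (hm : ∀ j, cZ.π.app j ≫ z.app j = m ≫ cB.π.app j)
    (hker : m.ker ≤ ⨆ j, (z.app j).ker.comap (cB.π.app j)) : IsLimit cZ where
  lift s := IsClosedImmersion.lift m (hB.lift ((Cone.postcompose z).obj s)) (hker.trans (iSup_le fun j => by
    rw [← Scheme.IdealSheafData.le_map_iff_comap_le, ← Scheme.Hom.ker_comp, hB.fac]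
    exact Scheme.Hom.le_ker_comp _ _))
  fac s j := by
    rw [← cancel_mono (z.app j), Category.assoc, hm, IsClosedImmersion.lift_fac_assoc, hB.fac]
    rfl
  uniq s f hf := by
    rw [← cancel_mono m, IsClosedImmersion.lift_fac]
    refine hB.hom_ext fun j => ?_
    rw [hB.fac, Category.assoc, ← hm, ← Category.assoc, hf]
    rfl

section Local

variable {X R : Scheme.{u}} (π : X ⟶ R) {P : ModPair.Pair.{u}} (s : P.total ⟶ R) {IR : R.IdealSheafData}
  {IX : X.IdealSheafData}

theorem prodInterior_eq (hπ : ModPair.IsAmbient IX IR π) (hs : ModPair.IsMinimal P.mod IR s) :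
    ModPair.prodInterior π s IX P.mod = pullback.fst π s ⁻¹ᵁ ModPair.interior IX := by
  refine le_antisymm inf_le_left (le_inf le_rfl ?_)
  intro x hx
  show pullback.snd π s x ∈ ModPair.interior P.mod
  rw [minimal_interior hs]
  show (pullback.snd π s ≫ s) x ∈ ModPair.interior IR
  rw [← pullback.condition]
  exact ambient_interior_le hπ hx

theorem isIso_mprodι (hπ : ModPair.IsAmbient IX IR π) (hs : ModPair.IsMinimal P.mod IR s) :
    IsIso (ModPair.mprodι π s IX P.mod ∣_ ModPair.interior (IX.comap (pullback.fst π s))) := by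
  rw [interior_comap, ← prodInterior_eq π s hπ hs]
  exact isIso_imageι_restrict _

theorem adm_pr (hπ : ModPair.IsAmbient IX IR π) (hs : ModPair.IsAdmBlowup P.mod IR s) :
    ModPair.IsAdmBlowup (IX.comap (ModPair.mprodι π s IX P.mod ≫ pullback.fst π s)) IX
      (ModPair.mprodι π s IX P.mod ≫ pullback.fst π s) := by
  obtain ⟨hmin, hp, hi⟩ := hs
  haveI := hp
  haveI := hi
  refine ⟨rfl, inferInstance, ?_⟩
  have h1 : IsIso (ModPair.mprodι π s IX P.mod ∣_ (pullback.fst π s ⁻¹ᵁ ModPair.interior IX)) := by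
    rw [← prodInterior_eq π s hπ hmin]
    exact isIso_imageι_restrict _
  have h2 : IsIso (pullback.fst π s ∣_ ModPair.interior IX) := by
    rw [← pullbackSymmetry_hom_comp_snd π s, morphismRestrict_comp]
    haveI := MP.isIso_snd_restrict s π (ModPair.interior IR) (ModPair.interior IX) (ambient_interior_le hπ)
    exact IsIso.comp_isIso' inferInstance inferInstance
  rw [morphismRestrict_comp]
  exact IsIso.comp_isIso' h1 h2

theorem min_snd (hπ : ModPair.IsMinimal IX IR π) (hs : ModPair.IsMinimal P.mod IR s) :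
    ModPair.IsMinimal (IX.comap (ModPair.mprodι π s IX P.mod ≫ pullback.fst π s)) P.mod
      (ModPair.mprodι π s IX P.mod ≫ pullback.snd π s) := by
  show _ = _
  rw [hπ, hs, ← Scheme.IdealSheafData.comap_comp, ← Scheme.IdealSheafData.comap_comp, Category.assoc,
    Category.assoc, pullback.condition]

end Local

end Groth.L13.PairColim
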