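import Groth.Agent.L13.PairColim.Pull
import Groth.Agent.S18745

/-! Morphisms in the localisation out of a limit of modulus pairs. -/

set_option autoImplicit false
set_option linter.style.haveILetI false
set_option backward.isDefEq.respectTransparency false

universe u

open CategoryTheory CategoryTheory.Limits AlgebraicGeometry TopologicalSpace

namespace Groth.L13.PairColim

open Groth.L22 Groth.L13.MP

variable {I : Type u} [SmallCategory I] [IsCofiltered I]

theorem dominant_cancel {X Y Z : Scheme.{u}} (f : X ⟶ Y) (p : Y ⟶ Z) (U : Z.Opens) [IsIso (p ∣_ U)]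
    (h : IsSchemeTheoreticallyDominant ((f ≫ p) ∣_ U)) : IsSchemeTheoreticallyDominant (f ∣_ p ⁻¹ᵁ U) := by
  have e : (f ∣_ p ⁻¹ᵁ U) = ((f ≫ p) ∣_ U) ≫ inv (p ∣_ U) := by
    rw [IsIso.eq_comp_inv]
    exact (morphismRestrict_comp f p U).symm
  rw [e]
  exact MorphismProperty.comp_mem @IsSchemeTheoreticallyDominant _ _ h inferInstance

theorem dominant_pull {M : MinSys I} {i : I} (B : Blow M i)
    (h : ∀ (a b : I) (t : a ⟶ b), IsSchemeTheoreticallyDominant (M.D.map t)) (j k : Over i) (t : j ⟶ k) :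
    IsSchemeTheoreticallyDominant ((pull B).D.map t) := by
  show IsSchemeTheoreticallyDominant (trans B t)
  let U := ModPair.interior (M.J k.left)
  haveI := h _ _ t.left
  have hd : IsSchemeTheoreticallyDominant (M.D.map t.left ∣_ U) :=
    IsSchemeTheoreticallyDominant.of_isPullback (isPullback_morphismRestrict (M.D.map t.left) U).flip
  haveI hk : IsIso (prj B k ∣_ U) := (adm_prj B k).2.2
  have hj : IsIso (prj B j ∣_ M.D.map t.left ⁻¹ᵁ U) := by
    rw [← minimal_interior (M.min j.left k.left t.left)]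
    exact (adm_prj B j).2.2
  haveI h1 : IsSchemeTheoreticallyDominant ((trans B t ≫ prj B k) ∣_ U) := by
    rw [trans_prj, morphismRestrict_comp (prj B j) (M.D.map t.left) U]
    haveI := hd
    haveI := hj
    exact MorphismProperty.comp_mem @IsSchemeTheoreticallyDominant _ _ inferInstance inferInstance
  haveI h2 : IsSchemeTheoreticallyDominant (trans B t ∣_ prj B k ⁻¹ᵁ U) :=
    dominant_cancel (trans B t) (prj B k) U h1
  haveI hdi : IsSchemeTheoreticallyDominant (prj B k ⁻¹ᵁ U).ι := by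
    show IsSchemeTheoreticallyDominant (prj B k ⁻¹ᵁ ModPair.interior (M.J k.left)).ι
    rw [← interior_comap]
    exact dominant_interior ((pull B).eff k)
  refine ⟨le_bot_iff.1 ?_⟩
  have h3 : ((trans B t ⁻¹ᵁ (prj B k ⁻¹ᵁ U)).ι ≫ trans B t).ker = ⊥ := by
    rw [← morphismRestrict_ι]
    exact Scheme.Hom.ker_eq_bot ((trans B t ∣_ prj B k ⁻¹ᵁ U) ≫ (prj B k ⁻¹ᵁ U).ι)
  rw [← h3]
  exact Scheme.Hom.le_ker_comp _ _

variable (M : MinSys I) (L : MinLim M) {S Y : ModPair.Pair.{u}}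

/-- a compatible family of maps to a base -/
structure Str (S : ModPair.Pair.{u}) where
  g : ∀ j, M.pair j ⟶ S
  comp : ∀ {j k : I} (t : j ⟶ k), M.map t ≫ g k = g j
  gX : L.pair ⟶ S
  compX : ∀ j, L.π j ≫ g j = gX

variable {M L}

noncomputable def Str.pull {i : I} (σ : Str M L S) (B : Blow M i) :
    Str (PairColim.pull B) (pullLim B L) S where
  g j := pullFst B j ≫ σ.g j.left
  comp {j k} t := by rw [← Category.assoc, map_pullFst, Category.assoc, σ.comp]
  gX := limFst B L ≫ σ.gX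
  compX j := by rw [← Category.assoc, π_pullFst, Category.assoc, σ.compX]

omit [IsCofiltered I] in
noncomputable def Str.trans (σ : Str M L S) : M.D ⟶ (Functor.const I).obj S.total where
  app j := (σ.g j).hom
  naturality j k t := (congrArg ModPair.Pair.Hom.hom (σ.comp t)).trans (Category.comp_id _).symm

omit [IsCofiltered I] in
noncomputable def Str.diagram (σ : Str M L S) : I ⥤ Over S.total where
  obj j := Over.mk (σ.g j).hom
  map {j k} t := Over.homMk (M.D.map t) (congrArg ModPair.Pair.Hom.hom (σ.comp t))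
  map_id j := Over.OverMorphism.ext (M.D.map_id j)
  map_comp t t' := Over.OverMorphism.ext (M.D.map_comp t t')

omit [IsCofiltered I] in
noncomputable def Str.cone (σ : Str M L S) : Cone σ.diagram where
  pt := Over.mk σ.gX.hom
  π :=
    { app := fun j => Over.homMk (L.c.π.app j) (congrArg ModPair.Pair.Hom.hom (σ.compX j))
      naturality := fun j k t => Over.OverMorphism.ext (L.c.π.naturality t) }

noncomputable def Str.isLimitCone (σ : Str M L S) : IsLimit σ.cone :=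
  haveI : IsConnected I := IsCofiltered.isConnected I
  isLimitOfReflects (Over.forget S.total) L.hc

section

variable [CompactSpace S.total] [QuasiSeparatedSpace S.total] (σ : Str M L S) (hY : Y ⟶ S)
  [CompactSpace Y.total] [QuasiSeparatedSpace Y.total] [LocallyOfFiniteType hY.hom]

/-- maps of pairs out of the limit descend -/
theorem exists_lift
    (h : (∀ (a b : I) (t : a ⟶ b), IsSchemeTheoreticallyDominant (M.D.map t)) ∨
      LocallyOfFinitePresentation hY.hom)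
    (a : L.pair ⟶ Y) (ha : a ≫ hY = σ.gX) :
    ∃ (i : I) (ai : M.pair i ⟶ Y), ai ≫ hY = σ.g i ∧ L.π i ≫ ai = a := by
  haveI : ∀ (i j : I) (t : i ⟶ j), IsAffineHom (σ.diagram.map t).left := M.aff
  haveI : ∀ i, CompactSpace (σ.diagram.obj i).left := M.cpt
  haveI : ∀ i, QuasiSeparatedSpace (σ.diagram.obj i).left := M.qs
  haveI : CompactSpace (Over.mk hY.hom).left := ‹CompactSpace Y.total›
  haveI : QuasiSeparatedSpace (Over.mk hY.hom).left := ‹QuasiSeparatedSpace Y.total›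
  haveI : LocallyOfFiniteType (Over.mk hY.hom).hom := ‹LocallyOfFiniteType hY.hom›
  obtain ⟨i, φi, hamb, hi⟩ := Groth.Agent.S18745.result σ.diagram σ.cone σ.isLimitCone M.J M.eff M.min L.IX L.hIX
    (Over.mk hY.hom) Y.mod Y.isEffCartier h (Over.homMk a.hom (congrArg ModPair.Pair.Hom.hom ha)) a.cond
  exact ⟨i, ⟨φi.left, hamb⟩, ModPair.Pair.Hom.ext (Over.w φi), ModPair.Pair.Hom.ext (congrArg CommaMorphism.left hi)⟩

omit [CompactSpace Y.total] [QuasiSeparatedSpace Y.total] [CompactSpace S.total] [QuasiSeparatedSpace S.total] in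
/-- maps of pairs equal on the limit are equal at a stage -/
theorem exists_eq {i : I} (a b : M.pair i ⟶ Y) (ha : a ≫ hY = σ.g i) (hb : b ≫ hY = σ.g i)
    (hab : L.π i ≫ a = L.π i ≫ b) : ∃ (j : I) (t : j ⟶ i), M.map t ≫ a = M.map t ≫ b := by
  haveI : ∀ {a b : I} (f : a ⟶ b), IsAffineHom (M.D.map f) := fun f => M.aff _ _ f
  obtain ⟨j, t, ht⟩ := Scheme.exists_hom_comp_eq_comp_of_locallyOfFiniteType M.D σ.trans hY.hom L.c L.hc a.hom b.hom
    (congrArg ModPair.Pair.Hom.hom ha).symm (congrArg ModPair.Pair.Hom.hom hb).symm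
    (congrArg ModPair.Pair.Hom.hom hab)
  exact ⟨j, t, ModPair.Pair.Hom.ext ht⟩

/-- an admissible blow-up of the limit is the ambient product with a blown up stage -/
theorem exists_blow (M : MinSys I) (L : MinLim M) {W : ModPair.Pair.{u}} (s : W ⟶ L.pair)
    (hs : ModPair.Pair.admBlowup s) :
    ∃ (i : I) (B : Blow M i) (e : W ⟶ (pullLim B L).pair) (e' : (pullLim B L).pair ⟶ W),
      e ≫ limFst B L = s ∧ e ≫ e' = 𝟙 W ∧ e' ≫ e = 𝟙 _ := by
  haveI : ∀ (a b : I) (t : a ⟶ b), IsAffineHom (M.D.map t) := M.aff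
  have hm : W.mod = L.IX.comap s.hom := hs.1
  obtain ⟨i, Yi, IYi, si, hIYi, hsi, e, he⟩ := DescendBlowUp.exists_descend_admBlowup M.D L.c L.hc M.J M.eff M.min
    L.IX L.hIX s.hom (hm ▸ W.isEffCartier) (by rw [← hm]; exact hs)
  let P : ModPair.Pair.{u} := ⟨Yi, IYi, hIYi⟩
  let B : Blow M i := ⟨P, ⟨si, le_of_eq hsi.1⟩, hsi⟩
  have he' : e.hom ≫ (limFst B L).hom = s.hom := he
  have hmod : W.mod = (pullLim B L).pair.mod.comap e.hom := by
    rw [hm, ← he', Scheme.IdealSheafData.comap_comp]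
    rfl
  refine ⟨i, B, ⟨e.hom, le_of_eq hmod⟩, ⟨e.inv, le_of_eq ?_⟩, ModPair.Pair.Hom.ext he',
    ModPair.Pair.Hom.ext e.hom_inv_id, ModPair.Pair.Hom.ext e.inv_hom_id⟩
  rw [hmod, ← Scheme.IdealSheafData.comap_comp, e.inv_hom_id]
  exact (Scheme.IdealSheafData.comap_id _).symm

/-- surjectivity -/
theorem exists_Q_lift
    (h : (∀ (a b : I) (t : a ⟶ b), IsSchemeTheoreticallyDominant (M.D.map t)) ∨
      LocallyOfFinitePresentation hY.hom)
    (φ : Q.obj L.pair ⟶ Q.obj Y) (hφ : φ ≫ Q.map hY = Q.map σ.gX) :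
    ∃ (i : I) (φi : Q.obj (M.pair i) ⟶ Q.obj Y),
      φi ≫ Q.map hY = Q.map (σ.g i) ∧ Q.map (L.π i) ≫ φi = φ := by
  obtain ⟨W₀, s₀, a₀, -, hs₀, ha₀, -⟩ := exists_common φ (𝟙 _)
  obtain ⟨W, t, ht, hts⟩ := exists_precomp (a := a₀ ≫ hY) (b := s₀ ≫ σ.gX)
    (by rw [Functor.map_comp, Functor.map_comp, ← ha₀, Category.assoc, hφ])
  obtain ⟨i, B, e, e', he, hee', he'e⟩ := exists_blow M L (t ≫ s₀) (isAdmBlowup_comp ht hs₀)
  obtain ⟨j, aj, haj, hπj⟩ := exists_lift (σ.pull B) hY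
    (h.imp_left (dominant_pull B)) (e' ≫ t ≫ a₀) (by
      show (e' ≫ t ≫ a₀) ≫ hY = limFst B L ≫ σ.gX
      rw [Category.assoc, Category.assoc, hts, ← Category.assoc t, ← he, ← Category.assoc, ← Category.assoc, he'e,
        Category.id_comp])
  haveI := isIso_Q (adm_pullFst B j)
  haveI : IsIso (Q.map (t ≫ s₀)) := by
    haveI := isIso_Q ht
    haveI := isIso_Q hs₀
    rw [Functor.map_comp]
    infer_instance
  let φj : Q.obj (M.pair j.left) ⟶ Q.obj Y := (asIso (Q.map (pullFst B j))).inv ≫ Q.map aj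
  have hφj : Q.map (pullFst B j) ≫ φj = Q.map aj := (asIso (Q.map (pullFst B j))).hom_inv_id_assoc _
  refine ⟨j.left, φj, ?_, ?_⟩
  · rw [← cancel_epi (Q.map (pullFst B j)), ← Category.assoc, hφj, ← Functor.map_comp, haj, ← Functor.map_comp]
    rfl
  · rw [← cancel_epi (Q.map (t ≫ s₀))]
    have h1 : (t ≫ s₀) ≫ L.π j.left = (e ≫ (pullLim B L).π j) ≫ pullFst B j := by
      rw [← he, Category.assoc, Category.assoc, π_pullFst]
    have h2 : (e ≫ (pullLim B L).π j) ≫ aj = t ≫ a₀ := by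
      rw [Category.assoc, hπj, ← Category.assoc, hee', Category.id_comp]
    rw [← Category.assoc, ← Functor.map_comp, h1, Functor.map_comp, Category.assoc, hφj, ← Functor.map_comp, h2,
      Functor.map_comp, Functor.map_comp, Category.assoc, ha₀]

omit [CompactSpace Y.total] [QuasiSeparatedSpace Y.total] [CompactSpace S.total] [QuasiSeparatedSpace S.total] in
/-- injectivity -/
theorem exists_Q_eq {i : I} (φ ψ : Q.obj (M.pair i) ⟶ Q.obj Y)
    (hφ : φ ≫ Q.map hY = Q.map (σ.g i)) (hψ : ψ ≫ Q.map hY = Q.map (σ.g i))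
    (heq : Q.map (L.π i) ≫ φ = Q.map (L.π i) ≫ ψ) :
    ∃ (j : I) (t : j ⟶ i), Q.map (M.map t) ≫ φ = Q.map (M.map t) ≫ ψ := by
  obtain ⟨W₀, s₀, a₀, b₀, hs₀, ha₀, hb₀⟩ := exists_common φ ψ
  obtain ⟨W₁, t₁, ht₁, ha₁⟩ := exists_precomp (a := a₀ ≫ hY) (b := s₀ ≫ σ.g i)
    (by rw [Functor.map_comp, Functor.map_comp, ← ha₀, Category.assoc, hφ])
  obtain ⟨W, t₂, ht₂, hb₂⟩ := exists_precomp (a := (t₁ ≫ b₀) ≫ hY) (b := (t₁ ≫ s₀) ≫ σ.g i)
    (by simp only [Functor.map_comp, ← hb₀, Category.assoc, hψ])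
  let B : Blow M i := ⟨W, t₂ ≫ t₁ ≫ s₀, isAdmBlowup_comp ht₂ (isAdmBlowup_comp ht₁ hs₀)⟩
  let a : B.P ⟶ Y := t₂ ≫ t₁ ≫ a₀
  let b : B.P ⟶ Y := t₂ ≫ t₁ ≫ b₀
  have ha : a ≫ hY = B.hom ≫ σ.g i := by simp only [a, B, Category.assoc, ha₁]
  have hb : b ≫ hY = B.hom ≫ σ.g i := by
    simp only [Category.assoc] at hb₂
    simp only [b, B, Category.assoc, hb₂]
  have hQa : Q.map B.hom ≫ φ = Q.map a := by simp only [a, B, Functor.map_comp, Category.assoc, ha₀]
  have hQb : Q.map B.hom ≫ ψ = Q.map b := by simp only [b, B, Functor.map_comp, Category.assoc, hb₀]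
  have hstr : ∀ (j : Over i), (pullSnd B j ≫ B.hom) = pullFst B j ≫ M.map j.hom := pullSnd_hom B
  let j₀ : Over i := Over.mk (𝟙 i)
  let q : (pullLim B L).pair ⟶ B.P := (pullLim B L).π j₀ ≫ pullSnd B j₀
  have hq : q ≫ B.hom = limFst B L ≫ L.π i := by
    rw [Category.assoc, hstr, ← Category.assoc, π_pullFst, Category.assoc, MinLim.π_map]
  have hQq : Q.map (q ≫ a) = Q.map (q ≫ b) := by
    simp only [Functor.map_comp, ← hQa, ← hQb]
    rw [← Category.assoc, ← Category.assoc, ← Functor.map_comp, hq, Functor.map_comp,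
      Category.assoc, Category.assoc, heq]
  obtain ⟨W', t, ht, htq⟩ := exists_precomp hQq
  obtain ⟨k, B₂, e, e', he, -, he'e⟩ := exists_blow (pull B) (pullLim B L) t ht
  have hlim : limFst B₂ (pullLim B L) ≫ q ≫ a = limFst B₂ (pullLim B L) ≫ q ≫ b := by
    rw [show limFst B₂ (pullLim B L) = e' ≫ t by rw [← he, ← Category.assoc, he'e, Category.id_comp]]
    simp only [Category.assoc, htq]
  let l₀ : Over k := Over.mk (𝟙 k)
  let m₀ : (pull B₂).pair l₀ ⟶ B.P := pullFst B₂ l₀ ≫ pullSnd B k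
  have hm₀ : m₀ ≫ B.hom ≫ σ.g i = ((σ.pull B).pull B₂).g l₀ := by
    show (pullFst B₂ l₀ ≫ pullSnd B k) ≫ B.hom ≫ σ.g i = pullFst B₂ l₀ ≫ pullFst B k ≫ σ.g k.left
    rw [Category.assoc, ← Category.assoc (pullSnd B k), hstr, Category.assoc, σ.comp]
  have hπm : (pullLim B₂ (pullLim B L)).π l₀ ≫ m₀ = limFst B₂ (pullLim B L) ≫ q := by
    show _ ≫ pullFst B₂ l₀ ≫ pullSnd B k = _
    rw [← Category.assoc, π_pullFst, Category.assoc]
    show _ ≫ (pullLim B L).π k ≫ pullSnd B k = _ ≫ (pullLim B L).π j₀ ≫ pullSnd B j₀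
    rw [← (pullLim B L).π_map (Over.homMk k.hom : k ⟶ j₀), Category.assoc, map_pullSnd]
  obtain ⟨l, u, hu⟩ := exists_eq ((σ.pull B).pull B₂) hY (m₀ ≫ a) (m₀ ≫ b)
    (by rw [Category.assoc, ha, hm₀]) (by rw [Category.assoc, hb, hm₀])
    (by rw [reassoc_of% hπm, hlim, reassoc_of% hπm])
  refine ⟨l.left.left, l.left.hom, ?_⟩
  have hm : (pull B₂).map u ≫ m₀ = pullFst B₂ l ≫ pullSnd B l.left := by
    show _ ≫ pullFst B₂ l₀ ≫ pullSnd B k = _
    rw [← Category.assoc, map_pullFst, Category.assoc]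
    exact congrArg (pullFst B₂ l ≫ ·) (map_pullSnd B u.left)
  have hu' : pullFst B₂ l ≫ pullSnd B l.left ≫ a = pullFst B₂ l ≫ pullSnd B l.left ≫ b := by
    rw [← reassoc_of% hm, ← reassoc_of% hm]
    exact hu
  haveI := isIso_Q (adm_pullFst B₂ l)
  haveI := isIso_Q (adm_pullFst B l.left)
  rw [← cancel_epi (Q.map (pullFst B l.left)), ← Category.assoc, ← Category.assoc, ← Functor.map_comp, ← hstr,
    Functor.map_comp, Category.assoc, Category.assoc, hQa, hQb, ← cancel_epi (Q.map (pullFst B₂ l))]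
  simpa only [← Functor.map_comp] using congrArg (fun z => Q.map z) hu'

end

end Groth.L13.PairColim
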