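import Groth.Agent.L13.PairColim.Main

/-! A limit in the category of modulus pairs over a base is a limit of the schemes with the pulled-back modulus. -/

set_option autoImplicit false
set_option linter.style.haveILetI false
set_option backward.isDefEq.respectTransparency false

universe u

open CategoryTheory CategoryTheory.Limits AlgebraicGeometry TopologicalSpace

namespace Groth.L13.PairColim

open Groth.L22 Groth.L13.MP

variable {I : Type u} [SmallCategory I] {S : ModPair.Pair.{u}} (D : I ⥤ Over S)

/-- the system of a diagram of modulus pairs over a base -/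
def ofPairs (haff : ∀ (i j : I) (t : i ⟶ j), IsAffineHom (D.map t).left.hom)
    (hmin : ∀ (i j : I) (t : i ⟶ j), ModPair.IsMinimal (D.obj i).left.mod (D.obj j).left.mod (D.map t).left.hom)
    (hcpt : ∀ i, CompactSpace (D.obj i).left.total) (hqs : ∀ i, QuasiSeparatedSpace (D.obj i).left.total) :
    MinSys I where
  D := D ⋙ Over.forget S ⋙ ModPair.Pair.forget
  J i := (D.obj i).left.mod
  eff i := (D.obj i).left.isEffCartier
  min := hmin
  aff := haff
  cpt := hcpt
  qs := hqs

variable {D} {haff : ∀ (i j : I) (t : i ⟶ j), IsAffineHom (D.map t).left.hom}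
  {hmin : ∀ (i j : I) (t : i ⟶ j), ModPair.IsMinimal (D.obj i).left.mod (D.obj j).left.mod (D.map t).left.hom}
  {hcpt : ∀ i, CompactSpace (D.obj i).left.total} {hqs : ∀ i, QuasiSeparatedSpace (D.obj i).left.total}

variable [IsCofiltered I]

/-- the cone over the base attached to a limit of the schemes -/
noncomputable def coneOver (L : MinLim (ofPairs D haff hmin hcpt hqs)) (i₀ : I) : Cone D where
  pt := Over.mk (L.π i₀ ≫ (D.obj i₀).hom)
  π :=
    { app := fun i => Over.homMk (L.π i) (by
        obtain ⟨k, a, b, -⟩ := IsCofilteredOrEmpty.cone_objs (C := I) i₀ i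
        show L.π i ≫ (D.obj i).hom = L.π i₀ ≫ (D.obj i₀).hom
        rw [← L.π_map a, ← L.π_map b, Category.assoc, Category.assoc]
        exact congrArg (L.π k ≫ ·) ((Over.w (D.map b)).trans (Over.w (D.map a)).symm))
      naturality := fun i j t => Over.OverMorphism.ext (ModPair.Pair.Hom.ext (L.c.π.naturality t)) }

noncomputable def isLimitConeOver (L : MinLim (ofPairs D haff hmin hcpt hqs)) (i₀ : I) :
    IsLimit (coneOver L i₀) where
  lift s :=
    let l : s.pt.left ⟶ L.pair :=
      ⟨L.hc.lift ((Over.forget S ⋙ ModPair.Pair.forget).mapCone s), by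
        show s.pt.left.mod ≤ L.IX.comap _
        rw [L.hIX i₀, ← Scheme.IdealSheafData.comap_comp, L.hc.fac]
        exact (s.π.app i₀).left.cond⟩
    Over.homMk l (by
      show l ≫ L.π i₀ ≫ (D.obj i₀).hom = s.pt.hom
      rw [← Category.assoc, show l ≫ L.π i₀ = (s.π.app i₀).left from ModPair.Pair.Hom.ext (L.hc.fac _ i₀)]
      exact Over.w (s.π.app i₀))
  fac s j := Over.OverMorphism.ext (ModPair.Pair.Hom.ext (L.hc.fac _ j))
  uniq s m hm := Over.OverMorphism.ext (ModPair.Pair.Hom.ext
    (L.hc.uniq ((Over.forget S ⋙ ModPair.Pair.forget).mapCone s) m.left.hom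
      (fun j => congrArg (fun z => z.left.hom) (hm j))))

include haff hmin hcpt hqs in
/-- the limit of pairs carries the pulled-back modulus -/
theorem exists_minLim_of_isLimit {c : Cone D} (hc : IsLimit c) :
    ∃ (hl : IsLimit ((Over.forget S ⋙ ModPair.Pair.forget).mapCone c)),
      ∀ i, c.pt.left.mod = (D.obj i).left.mod.comap (c.π.app i).left.hom := by
  obtain ⟨i₀⟩ := IsCofiltered.nonempty (C := I)
  obtain ⟨L⟩ := exists_minLim (ofPairs D haff hmin hcpt hqs)
  let e := (isLimitConeOver L i₀).conePointUniqueUpToIso hc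
  have he : ∀ i, e.hom.left.hom ≫ (c.π.app i).left.hom = L.c.π.app i := fun i =>
    congrArg (fun z => z.left.hom) ((isLimitConeOver L i₀).conePointUniqueUpToIso_hom_comp hc i)
  have hL : IsLimit ((Over.forget S ⋙ ModPair.Pair.forget).mapCone (coneOver L i₀)) := L.hc
  refine ⟨IsLimit.ofIsoLimit hL
    ((Cone.functoriality D (Over.forget S ⋙ ModPair.Pair.forget)).mapIso (Cone.ext e fun i =>
      ((isLimitConeOver L i₀).conePointUniqueUpToIso_hom_comp hc i).symm)), fun i => le_antisymm (c.π.app i).left.cond ?_⟩
  have h1 : e.inv.left.hom ≫ e.hom.left.hom = 𝟙 c.pt.left.total := congrArg (fun z => z.left.hom) e.inv_hom_id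
  have h2 : L.IX ≤ c.pt.left.mod.comap e.hom.left.hom := e.hom.left.cond
  have h3 : L.IX.comap e.inv.left.hom ≤ (c.pt.left.mod.comap e.hom.left.hom).comap e.inv.left.hom :=
    Scheme.IdealSheafData.comap_mono e.inv.left.hom h2
  have h4 : (D.obj i).left.mod.comap (c.π.app i).left.hom = L.IX.comap e.inv.left.hom :=
    (congrArg (fun f => (D.obj i).left.mod.comap f) ((reassoc_of% h1) (c.π.app i).left.hom).symm).trans
      ((Scheme.IdealSheafData.comap_comp _ _ _).trans (congrArg (fun K => K.comap e.inv.left.hom)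
        ((congrArg (fun f => (D.obj i).left.mod.comap f) (he i)).trans (L.hIX i).symm)))
  refine h4.trans_le (h3.trans_eq ?_)
  exact (Scheme.IdealSheafData.comap_comp _ _ _).symm.trans
    ((congrArg (fun f => c.pt.left.mod.comap f) h1).trans (Scheme.IdealSheafData.comap_id _))

end Groth.L13.PairColim
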