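import Groth.Agent.L13.PairColim.Base

/-! The blown-up system of a system of modulus pairs. -/

set_option autoImplicit false
set_option linter.style.haveILetI false
set_option backward.isDefEq.respectTransparency false
set_option backward.defeqAttrib.useBackward true

universe u

open CategoryTheory CategoryTheory.Limits AlgebraicGeometry TopologicalSpace

namespace Groth.L13.PairColim

open Groth.L22 Groth.L13.MP

/-- an admissible blow-up of one stage -/
structure Blow {I : Type u} [SmallCategory I] (M : MinSys I) (i : I) where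
  P : ModPair.Pair.{u}
  hom : P ⟶ M.pair i
  adm : ModPair.Pair.admBlowup hom

variable {I : Type u} [SmallCategory I] [IsCofiltered I] {M : MinSys I} {i : I} (B : Blow M i)

noncomputable abbrev obj (j : Over i) : Scheme.{u} :=
  ModPair.mprod (M.D.map j.hom) B.hom.hom (M.J j.left) B.P.mod

noncomputable abbrev emb (j : Over i) : obj B j ⟶ pullback (M.D.map j.hom) B.hom.hom :=
  ModPair.mprodι (M.D.map j.hom) B.hom.hom (M.J j.left) B.P.mod

noncomputable abbrev bc : Over i ⥤ Scheme.{u} := Groth.L19.Limit.bcDiagram M.D B.hom.hom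

omit [IsCofiltered I] in
theorem bc_map_fst {j k : Over i} (t : j ⟶ k) :
    (bc B).map t ≫ pullback.fst (M.D.map k.hom) B.hom.hom =
      pullback.fst (M.D.map j.hom) B.hom.hom ≫ M.D.map t.left := by
  simp [Groth.L19.Limit.bcDiagram]

omit [IsCofiltered I] in
theorem bc_map_snd {j k : Over i} (t : j ⟶ k) :
    (bc B).map t ≫ pullback.snd (M.D.map k.hom) B.hom.hom = pullback.snd (M.D.map j.hom) B.hom.hom := by
  simp [Groth.L19.Limit.bcDiagram]

omit [IsCofiltered I] in
theorem le_ker_map {j k : Over i} (t : j ⟶ k) : (emb B k).ker ≤ (emb B j ≫ (bc B).map t).ker := by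
  haveI := isIso_mprodι (M.D.map k.hom) B.hom.hom (le_of_eq (M.min _ _ k.hom)) B.adm.1
  refine DescendBlowUp.le_ker_of_dense (Z := (bc B).obj k) (emb B k) (emb B j ≫ (bc B).map t)
    ((M.J k.left).comap (pullback.fst (M.D.map k.hom) B.hom.hom)) ?_
  rw [← Scheme.IdealSheafData.comap_comp, Category.assoc, bc_map_fst, ← Category.assoc,
    Scheme.IdealSheafData.comap_comp, ← M.min j.left k.left t.left]
  exact isEffCartier_fst (M.D.map j.hom) B.hom.hom (M.eff _) B.P.isEffCartier

noncomputable def trans {j k : Over i} (t : j ⟶ k) : obj B j ⟶ obj B k :=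
  IsClosedImmersion.lift (emb B k) (emb B j ≫ (bc B).map t) (le_ker_map B t)

omit [IsCofiltered I] in
@[reassoc (attr := simp)]
theorem trans_emb {j k : Over i} (t : j ⟶ k) : trans B t ≫ emb B k = emb B j ≫ (bc B).map t :=
  IsClosedImmersion.lift_fac _ _ _

noncomputable def diag : Over i ⥤ Scheme.{u} where
  obj := obj B
  map t := trans B t
  map_id j := by
    rw [← cancel_mono (emb B j), trans_emb]
    simp only [CategoryTheory.Functor.map_id, Category.id_comp]
    exact Category.comp_id _
  map_comp {j k l} t t' := by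
    rw [← cancel_mono (emb B l), Category.assoc, trans_emb, trans_emb, trans_emb_assoc, Functor.map_comp]

noncomputable abbrev prj (j : Over i) : obj B j ⟶ M.D.obj j.left :=
  emb B j ≫ pullback.fst (M.D.map j.hom) B.hom.hom

omit [IsCofiltered I] in
theorem trans_prj {j k : Over i} (t : j ⟶ k) : trans B t ≫ prj B k = prj B j ≫ M.D.map t.left := by
  rw [trans_emb_assoc, bc_map_fst, Category.assoc]

omit [IsCofiltered I] in
theorem adm_prj (j : Over i) :
    ModPair.IsAdmBlowup ((M.J j.left).comap (prj B j)) (M.J j.left) (prj B j) :=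
  adm_pr (M.D.map j.hom) B.hom.hom (le_of_eq (M.min _ _ j.hom)) B.adm

/-- the blown-up system -/
noncomputable def pull : MinSys (Over i) where
  D := diag B
  J j := (M.J j.left).comap (prj B j)
  eff j := isEffCartier_fst (M.D.map j.hom) B.hom.hom (M.eff _) B.P.isEffCartier
  min j k t := by
    show (M.J j.left).comap (prj B j) = ((M.J k.left).comap (prj B k)).comap (trans B t)
    rw [← Scheme.IdealSheafData.comap_comp, trans_prj, M.min j.left k.left t.left, ← Scheme.IdealSheafData.comap_comp]
  aff j k t := by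
    show IsAffineHom (trans B t)
    haveI : ∀ {a b : I} (f : a ⟶ b), IsAffineHom (M.D.map f) := fun f => M.aff _ _ f
    haveI : IsAffineHom (trans B t ≫ emb B k) := by
      rw [trans_emb]
      exact MorphismProperty.comp_mem _ _ _ inferInstance (inferInstanceAs (IsAffineHom ((bc B).map t)))
    exact IsAffineHom.of_comp _ (emb B k)
  cpt j := by
    haveI := (adm_prj B j).2.1
    exact QuasiCompact.compactSpace_of_compactSpace (prj B j)
  qs j := by
    haveI := (adm_prj B j).2.1
    exact quasiSeparatedSpace_of_quasiSeparated (prj B j)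

/-- the projection from the blown-up system -/
noncomputable abbrev pullFst (j : Over i) : (pull B).pair j ⟶ M.pair j.left :=
  ⟨prj B j, le_refl ((M.J j.left).comap (prj B j))⟩

omit [IsCofiltered I] in
theorem adm_pullFst (j : Over i) : ModPair.Pair.admBlowup (pullFst B j) := adm_prj B j

noncomputable abbrev pullSnd (j : Over i) : (pull B).pair j ⟶ B.P :=
  ⟨emb B j ≫ pullback.snd (M.D.map j.hom) B.hom.hom,
    le_of_eq (min_snd (M.D.map j.hom) B.hom.hom (M.min _ _ j.hom) B.adm.1)⟩

omit [IsCofiltered I] in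
theorem pullSnd_hom (j : Over i) : pullSnd B j ≫ B.hom = pullFst B j ≫ M.map j.hom :=
  ModPair.Pair.Hom.ext (by
    show (emb B j ≫ pullback.snd (M.D.map j.hom) B.hom.hom) ≫ B.hom.hom = prj B j ≫ M.D.map j.hom
    simp only [Category.assoc, pullback.condition])

omit [IsCofiltered I] in
theorem map_pullFst {j k : Over i} (t : j ⟶ k) :
    (pull B).map t ≫ pullFst B k = pullFst B j ≫ M.map t.left :=
  ModPair.Pair.Hom.ext (trans_prj B t)

omit [IsCofiltered I] in
theorem map_pullSnd {j k : Over i} (t : j ⟶ k) : (pull B).map t ≫ pullSnd B k = pullSnd B j :=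
  ModPair.Pair.Hom.ext (by
    show trans B t ≫ emb B k ≫ pullback.snd (M.D.map k.hom) B.hom.hom = emb B j ≫ pullback.snd (M.D.map j.hom) B.hom.hom
    rw [trans_emb_assoc, bc_map_snd])

variable (L : MinLim M)

noncomputable abbrev limObj : Scheme.{u} := ModPair.mprod (L.c.π.app i) B.hom.hom L.IX B.P.mod

noncomputable abbrev limEmb : limObj B L ⟶ pullback (L.c.π.app i) B.hom.hom :=
  ModPair.mprodι (L.c.π.app i) B.hom.hom L.IX B.P.mod

noncomputable abbrev bcc : Cone (bc B) := Groth.L19.Limit.bcCone M.D L.c B.hom.hom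

omit [IsCofiltered I] in
theorem bcc_fst (j : Over i) :
    (bcc B L).π.app j ≫ pullback.fst (M.D.map j.hom) B.hom.hom =
      pullback.fst (L.c.π.app i) B.hom.hom ≫ L.c.π.app j.left := by
  simp [Groth.L19.Limit.bcCone]

omit [IsCofiltered I] in
theorem bcc_snd (j : Over i) :
    (bcc B L).π.app j ≫ pullback.snd (M.D.map j.hom) B.hom.hom = pullback.snd (L.c.π.app i) B.hom.hom := by
  simp [Groth.L19.Limit.bcCone]

omit [IsCofiltered I] in
theorem eff_lim : BlowUp.IsEffCartierIdeal (L.IX.comap (limEmb B L ≫ pullback.fst (L.c.π.app i) B.hom.hom)) :=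
  isEffCartier_fst (L.c.π.app i) B.hom.hom L.eff B.P.isEffCartier

omit [IsCofiltered I] in
theorem le_ker_proj (j : Over i) : (emb B j).ker ≤ (limEmb B L ≫ (bcc B L).π.app j).ker := by
  haveI := isIso_mprodι (M.D.map j.hom) B.hom.hom (le_of_eq (M.min _ _ j.hom)) B.adm.1
  refine DescendBlowUp.le_ker_of_dense (Z := (bc B).obj j) (emb B j) (limEmb B L ≫ (bcc B L).π.app j)
    ((M.J j.left).comap (pullback.fst (M.D.map j.hom) B.hom.hom)) ?_
  rw [← Scheme.IdealSheafData.comap_comp, Category.assoc, bcc_fst, ← Category.assoc,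
    Scheme.IdealSheafData.comap_comp, ← L.hIX j.left]
  exact eff_lim B L

noncomputable def embTrans : diag B ⟶ bc B where
  app := emb B
  naturality j k t := trans_emb B t

instance (j : Over i) : IsClosedImmersion ((embTrans B).app j) := inferInstanceAs (IsClosedImmersion (emb B j))

/-- a cone on the blown-up system below a closed subscheme of the limit of the pullbacks -/
noncomputable def coneOf {T : Scheme.{u}} (m : T ⟶ (bcc B L).pt)
    (hm : ∀ j : Over i, (emb B j).ker ≤ (m ≫ (bcc B L).π.app j).ker) : Cone (diag B) where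
  pt := T
  π :=
    { app := fun j => IsClosedImmersion.lift (emb B j) (m ≫ (bcc B L).π.app j) (hm j)
      naturality := fun j k t => by
        show 𝟙 _ ≫ _ = _ ≫ trans B t
        rw [← cancel_mono (emb B k), Category.assoc, Category.assoc, trans_emb, IsClosedImmersion.lift_fac_assoc,
          Category.id_comp, IsClosedImmersion.lift_fac]
        exact (congrArg (m ≫ ·) ((bcc B L).w t).symm).trans (Category.assoc _ _ _).symm }

omit [IsCofiltered I] in
theorem coneOf_emb {T : Scheme.{u}} (m : T ⟶ (bcc B L).pt)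
    (hm : ∀ j : Over i, (emb B j).ker ≤ (m ≫ (bcc B L).π.app j).ker) (j : Over i) :
    (coneOf B L m hm).π.app j ≫ emb B j = m ≫ (bcc B L).π.app j :=
  IsClosedImmersion.lift_fac _ _ _

/-- the closed subscheme of the limit of the pullbacks is cut out by the stages -/
theorem ker_limEmb : (limEmb B L).ker ≤ ⨆ j, ((embTrans B).app j).ker.comap ((bcc B L).π.app j) := by
  let K : (bcc B L).pt.IdealSheafData := ⨆ j, ((embTrans B).app j).ker.comap ((bcc B L).π.app j)
  have hK : ∀ j : Over i, (emb B j).ker ≤ (K.subschemeι ≫ (bcc B L).π.app j).ker := fun j => by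
    refine (Scheme.IdealSheafData.le_map_iff_comap_le.2 ?_).trans_eq (Scheme.Hom.ker_comp _ _).symm
    exact (le_iSup (fun j => ((embTrans B).app j).ker.comap ((bcc B L).π.app j)) j).trans
      (Scheme.IdealSheafData.ker_subschemeι K).ge
  haveI : IsClosedImmersion (K.subschemeι : (coneOf B L K.subschemeι hK).pt ⟶ (bcc B L).pt) :=
    inferInstanceAs (IsClosedImmersion K.subschemeι)
  have hlim : IsLimit (coneOf B L K.subschemeι hK) :=
    isLimitClosed (embTrans B) (Groth.L19.Limit.isLimitBcCone B.hom.hom L.hc) _ K.subschemeι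
      (coneOf_emb B L K.subschemeι hK) (Scheme.IdealSheafData.ker_subschemeι K).le
  let j₀ : Over i := Over.mk (𝟙 i)
  haveI : ∀ (j k : Over i) (t : j ⟶ k), IsAffineHom ((diag B).map t) := (pull B).aff
  have h1 : BlowUp.IsEffCartierIdeal _ :=
    Groth.Agent.S18744.result (diag B) _ hlim (pull B).J (pull B).eff (pull B).min j₀
  haveI := isIso_mprodι (L.c.π.app i) B.hom.hom (le_of_eq (L.hIX i)) B.adm.1
  refine (DescendBlowUp.le_ker_of_dense (Z := (bcc B L).pt) (limEmb B L) K.subschemeι
    (L.IX.comap (pullback.fst (L.c.π.app i) B.hom.hom)) ?_).trans (Scheme.IdealSheafData.ker_subschemeι K).le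
  have h2 : (coneOf B L K.subschemeι hK).π.app j₀ ≫ prj B j₀ =
      (K.subschemeι ≫ pullback.fst (L.c.π.app i) B.hom.hom) ≫ L.c.π.app j₀.left := by
    refine (Category.assoc _ _ _).symm.trans ?_
    rw [coneOf_emb, Category.assoc, bcc_fst]
    exact (Category.assoc _ _ _).symm
  rw [← Scheme.IdealSheafData.comap_comp, L.hIX j₀.left, ← Scheme.IdealSheafData.comap_comp, ← h2,
    Scheme.IdealSheafData.comap_comp]
  exact h1

noncomputable abbrev limCone : Cone (diag B) := coneOf B L (limEmb B L) (le_ker_proj B L)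

omit [IsCofiltered I] in
theorem limCone_prj (j : Over i) :
    (limCone B L).π.app j ≫ prj B j = (limEmb B L ≫ pullback.fst (L.c.π.app i) B.hom.hom) ≫ L.c.π.app j.left := by
  refine (Category.assoc _ _ _).symm.trans ?_
  rw [coneOf_emb, Category.assoc, bcc_fst]
  exact (Category.assoc _ _ _).symm

/-- the ambient product is the limit of the blown-up system -/
noncomputable def pullLim : MinLim (pull B) where
  c := limCone B L
  hc := isLimitClosed (embTrans B) (Groth.L19.Limit.isLimitBcCone B.hom.hom L.hc) _ (limEmb B L)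
    (coneOf_emb B L (limEmb B L) (le_ker_proj B L)) (ker_limEmb B L)
  IX := L.IX.comap (limEmb B L ≫ pullback.fst (L.c.π.app i) B.hom.hom)
  hIX j := by
    show _ = ((M.J j.left).comap (prj B j)).comap ((limCone B L).π.app j)
    rw [← Scheme.IdealSheafData.comap_comp, limCone_prj, L.hIX j.left]
    exact (Scheme.IdealSheafData.comap_comp _ _ _).symm
  eff := eff_lim B L

/-- the projection from the limit of the blown-up system -/
noncomputable abbrev limFst : (pullLim B L).pair ⟶ L.pair :=
  ⟨limEmb B L ≫ pullback.fst (L.c.π.app i) B.hom.hom,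
    le_refl (L.IX.comap (limEmb B L ≫ pullback.fst (L.c.π.app i) B.hom.hom))⟩

theorem adm_limFst : ModPair.Pair.admBlowup (limFst B L) :=
  adm_pr (L.c.π.app i) B.hom.hom (le_of_eq (L.hIX i)) B.adm

theorem π_pullFst (j : Over i) : (pullLim B L).π j ≫ pullFst B j = limFst B L ≫ L.π j.left :=
  ModPair.Pair.Hom.ext (limCone_prj B L j)

end Groth.L13.PairColim
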